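import Groth.Prelude.Def_SGA4a
import Mathlib.CategoryTheory.Products.Basic
import Mathlib.CategoryTheory.Sites.SheafOfTypes
import Mathlib.CategoryTheory.Functor.FullyFaithful

/-!
Functors from a small category to a topos form a topos.
-/

set_option autoImplicit false
set_option linter.style.haveILetI false

universe u v

open CategoryTheory Opposite
open scoped Prod

namespace Groth.Agent.FunctorTopos

variable {C D : Type u} [SmallCategory C] [SmallCategory D] (J : GrothendieckTopology C)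

/-- The arrows of a sieve which are constant in the second variable. -/
def slice {X : C × Dᵒᵖ} (S : Sieve X) : Sieve X.1 where
  arrows c' k := @S.arrows (c', X.2) (k ×ₘ 𝟙 X.2)
  downward_closed {Y Z} k hk l := by
    have := S.downward_closed hk ((l ×ₘ 𝟙 X.2) : (Z, X.2) ⟶ (Y, X.2))
    simpa using this

theorem slice_mono {X : C × Dᵒᵖ} {S T : Sieve X} (h : ∀ {Y} (k : Y ⟶ X), S k → T k) : slice S ≤ slice T :=
  fun _ k hk => h _ hk

/-- The topology. -/
def topology : GrothendieckTopology (C × Dᵒᵖ) where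
  sieves X := {S | slice S ∈ J X.1}
  top_mem' X := J.superset_covering (fun _ _ _ => trivial) (J.top_mem X.1)
  pullback_stable' X Y S f hS := by
    refine J.superset_covering (fun c' k hk => ?_) (J.pullback_stable f.1 hS)
    have h := S.downward_closed (hk : @S.arrows (c', X.2) ((k ≫ f.1) ×ₘ 𝟙 X.2))
      ((𝟙 c' ×ₘ f.2) : (c', Y.2) ⟶ (c', X.2))
    show @S.arrows (c', Y.2) ((k ×ₘ 𝟙 Y.2) ≫ f)
    have e : ((k ×ₘ 𝟙 Y.2) ≫ f : (c', Y.2) ⟶ X) = (k ≫ f.1) ×ₘ f.2 := by ext <;> simp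
    rw [e]
    simpa using h
  transitive' X S hS R hR := by
    refine J.transitive hS _ fun c' k hk => J.superset_covering (fun c'' l hl => ?_) (hR hk)
    show @R.arrows (c'', X.2) ((l ≫ k) ×ₘ 𝟙 X.2)
    have hl' : @R.arrows (c'', X.2) ((l ×ₘ 𝟙 X.2) ≫ (k ×ₘ 𝟙 X.2)) := hl
    simpa using hl'

variable (F : D ⥤ Sheaf J (Type u))

/-- The presheaf on the product. -/
def toPresheaf : (C × Dᵒᵖ)ᵒᵖ ⥤ Type u where
  obj X := (F.obj X.unop.2.unop).obj.obj (op X.unop.1)
  map {X Y} f := ↾fun x => (F.map f.unop.2.unop).hom.app (op Y.unop.1) ((F.obj X.unop.2.unop).obj.map f.unop.1.op x)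
  map_id X := by ext x; simp
  map_comp {X Y Z} f g := by
    ext x
    show (F.map ((g.unop ≫ f.unop).2.unop)).hom.app _ ((F.obj X.unop.2.unop).obj.map ((g.unop ≫ f.unop).1.op) x) = _
    have hn := ConcreteCategory.congr_hom ((F.map f.unop.2.unop).hom.naturality g.unop.1.op)
      ((F.obj X.unop.2.unop).obj.map f.unop.1.op x)
    simp at hn ⊢

theorem toPresheaf_map {X Y : C × Dᵒᵖ} (f : Y ⟶ X) (x : (toPresheaf J F).obj (op X)) :
    (toPresheaf J F).map f.op x = (F.map f.2.unop).hom.app (op Y.1) ((F.obj X.2.unop).obj.map f.1.op x) := rfl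

theorem isSheaf_toPresheaf : Presieve.IsSheaf (topology J) (toPresheaf J F) := by
  intro X S hS x hx
  obtain ⟨c, d⟩ := X
  have hsh : ∀ d : D, Presieve.IsSheaf J (F.obj d).obj := fun d =>
    (isSheaf_iff_isSheaf_of_type J _).1 (F.obj d).property
  let y : Presieve.FamilyOfElements (F.obj d.unop).obj (slice S).arrows := fun c' k hk => x (k ×ₘ 𝟙 d) hk
  have hmap : ∀ {c' c'' : C} (l : c'' ⟶ c') (z : (toPresheaf J F).obj (op (c', d))),
      (F.obj d.unop).obj.map l.op z = (toPresheaf J F).map ((l ×ₘ 𝟙 d) : (c'', d) ⟶ (c', d)).op z := fun l z => by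
    rw [toPresheaf_map]; simp
  have hy : y.Compatible := fun Y₁ Y₂ Z g₁ g₂ k₁ k₂ h₁ h₂ h => by
    rw [hmap, hmap]
    exact hx _ _ h₁ h₂ (by ext <;> simp [h])
  refine ⟨(hsh _ _ hS).amalgamate y hy, fun Y f hf => ?_, fun z hz => ?_⟩
  · obtain ⟨c', d'⟩ := Y
    refine ((hsh d'.unop).isSeparated _ (J.pullback_stable f.1 hS)).ext fun c'' l hl => ?_
    have h1 := (hsh _ _ hS).valid_glue hy (l ≫ f.1) hl
    have hfac : ((l ×ₘ 𝟙 d' : (c'', d') ⟶ (c', d')) ≫ f) =
        ((𝟙 c'' ×ₘ f.2 : (c'', d') ⟶ (c'', d)) ≫ ((l ≫ f.1) ×ₘ 𝟙 d : (c'', d) ⟶ (c, d))) := by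
      ext <;> simp
    have h2 := hx (l ×ₘ 𝟙 d' : (c'', d') ⟶ (c', d')) (𝟙 c'' ×ₘ f.2 : (c'', d') ⟶ (c'', d)) hf hl hfac
    have h2' : (F.obj d'.unop).obj.map l.op (x f hf) =
        (F.map f.2.unop).hom.app (op c'') (x ((l ≫ f.1) ×ₘ 𝟙 d) hl) := by
      have h4 : (F.map (𝟙 d'.unop)).hom.app (op c'') ((F.obj d'.unop).obj.map l.op (x f hf)) =
          (F.map f.2.unop).hom.app (op c'') ((F.obj d.unop).obj.map (𝟙 c'').op (x ((l ≫ f.1) ×ₘ 𝟙 d) hl)) := h2
      simp at h4
      exact h4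
    have h3 := ConcreteCategory.congr_hom ((F.map f.2.unop).hom.naturality l.op)
      ((F.obj d.unop).obj.map f.1.op ((hsh _ _ hS).amalgamate y hy))
    show (F.obj d'.unop).obj.map l.op ((F.map f.2.unop).hom.app (op c')
        ((F.obj d.unop).obj.map f.1.op ((hsh _ _ hS).amalgamate y hy))) = (F.obj d'.unop).obj.map l.op (x f hf)
    refine Eq.trans (Eq.trans h3.symm (congrArg ((F.map f.2.unop).hom.app (op c'')) ?_)) h2'.symm
    show (F.obj d.unop).obj.map l.op ((F.obj d.unop).obj.map f.1.op ((hsh _ _ hS).amalgamate y hy)) = _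
    refine (Functor.map_comp_apply (F.obj d.unop).obj f.1.op l.op _).symm.trans ?_
    exact h1
  · refine ((hsh _).isSeparated _ hS).ext fun c' k hk => ?_
    rw [(hsh _ _ hS).valid_glue hy k hk, hmap]
    exact hz _ hk

/-- The functor to sheaves on the product. -/
def toSheaf : (D ⥤ Sheaf J (Type u)) ⥤ Sheaf (topology J (D := D)) (Type u) where
  obj F := ⟨toPresheaf J F, (isSheaf_iff_isSheaf_of_type _ _).2 (isSheaf_toPresheaf J F)⟩
  map {F G} η := ⟨{
    app := fun X => ↾fun x => (η.app X.unop.2.unop).hom.app (op X.unop.1) x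
    naturality := fun X Y f => by
      ext x
      have h1 := ConcreteCategory.congr_hom ((η.app X.unop.2.unop).hom.naturality f.unop.1.op) x
      have h2 := ConcreteCategory.congr_hom
        (congrArg (fun m : F.obj X.unop.2.unop ⟶ G.obj Y.unop.2.unop => m.hom.app (op Y.unop.1)) (η.naturality f.unop.2.unop))
        ((F.obj X.unop.2.unop).obj.map f.unop.1.op x)
      show (η.app Y.unop.2.unop).hom.app (op Y.unop.1) ((F.map f.unop.2.unop).hom.app (op Y.unop.1)
          ((F.obj X.unop.2.unop).obj.map f.unop.1.op x)) =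
        (G.map f.unop.2.unop).hom.app (op Y.unop.1) ((G.obj X.unop.2.unop).obj.map f.unop.1.op
          ((η.app X.unop.2.unop).hom.app (op X.unop.1) x))
      exact h2.trans (congrArg ((G.map f.unop.2.unop).hom.app (op Y.unop.1)) h1) }⟩
  map_id F := by apply Sheaf.hom_ext; ext X x; rfl
  map_comp η θ := by apply Sheaf.hom_ext; ext X x; rfl

theorem toSheaf_faithful : (toSheaf J (D := D)).Faithful := ⟨fun {F G} η θ h => by
  ext d : 2
  apply Sheaf.hom_ext
  ext ⟨c⟩ x
  exact ConcreteCategory.congr_hom (congrArg (fun m : (toSheaf J).obj F ⟶ (toSheaf J).obj G => m.hom.app (op (c, op d))) h) x⟩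

theorem toSheaf_full : (toSheaf J (D := D)).Full := ⟨fun {F G} μ => by
  refine ⟨{ app := fun d => ⟨{ app := fun c => ↾(fun x => μ.hom.app (op (c.unop, op d)) x),
                                naturality := fun c c' k => ?_ }⟩,
            naturality := fun d d' g => ?_ }, ?_⟩
  · ext x
    have h := ConcreteCategory.congr_hom (μ.hom.naturality ((k.unop ×ₘ 𝟙 (op d)) : (c'.unop, op d) ⟶ (c.unop, op d)).op) x
    simp [toSheaf, toPresheaf] at h ⊢
    exact h
  · apply Sheaf.hom_ext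
    ext ⟨c⟩ x
    have h := ConcreteCategory.congr_hom (μ.hom.naturality ((𝟙 c ×ₘ g.op) : (c, op d') ⟶ (c, op d)).op) x
    simp [toSheaf, toPresheaf] at h ⊢
    exact h
  · apply Sheaf.hom_ext
    ext X x
    rfl⟩

variable (P : Sheaf (topology J (D := D)) (Type u))

theorem toSheaf_essSurj : (toSheaf J (D := D)).EssSurj := ⟨fun P => by
  have hP : Presieve.IsSheaf (topology J) P.obj := (isSheaf_iff_isSheaf_of_type _ P.obj).1 P.property
  let G : D → Cᵒᵖ ⥤ Type u := fun d =>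
    { obj := fun c => P.obj.obj (op (c.unop, op d))
      map := fun {c c'} k => P.obj.map ((k.unop ×ₘ 𝟙 (op d)) : (c'.unop, op d) ⟶ (c.unop, op d)).op
      map_id := fun c => P.obj.map_id _
      map_comp := fun k l => by
        rw [← P.obj.map_comp, ← op_comp]
        congr 2
        ext <;> simp }
  have hG : ∀ d, Presheaf.IsSheaf J (G d) := fun d => by
    rw [isSheaf_iff_isSheaf_of_type]
    intro c R hR x hx
    let S : Sieve ((c, op d) : C × Dᵒᵖ) :=
      { arrows := fun Y f => R f.1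
        downward_closed := fun h g => by simpa using R.downward_closed h g.1 }
    have hS : S ∈ topology J (c, op d) := J.superset_covering (fun _ _ h => h) hR
    let y : Presieve.FamilyOfElements P.obj S.arrows := fun Y f hf =>
      P.obj.map ((𝟙 Y.1 ×ₘ f.2) : Y ⟶ (Y.1, op d)).op (x f.1 hf)
    have hy : y.Compatible := fun Y₁ Y₂ Z g₁ g₂ f₁ f₂ h₁ h₂ h => by
      have e := hx g₁.1 g₂.1 h₁ h₂ (congrArg Prod.fst h)
      have h' : g₁.2 ≫ f₁.2 = g₂.2 ≫ f₂.2 := congrArg Prod.snd h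
      have k1 : g₁ ≫ ((𝟙 Y₁.1 ×ₘ f₁.2) : Y₁ ⟶ (Y₁.1, op d)) =
          ((𝟙 Z.1 ×ₘ (g₁.2 ≫ f₁.2)) : Z ⟶ (Z.1, op d)) ≫ ((g₁.1 ×ₘ 𝟙 (op d)) : (Z.1, op d) ⟶ (Y₁.1, op d)) := by
        ext <;> simp
      have k2 : g₂ ≫ ((𝟙 Y₂.1 ×ₘ f₂.2) : Y₂ ⟶ (Y₂.1, op d)) =
          ((𝟙 Z.1 ×ₘ (g₁.2 ≫ f₁.2)) : Z ⟶ (Z.1, op d)) ≫ ((g₂.1 ×ₘ 𝟙 (op d)) : (Z.1, op d) ⟶ (Y₂.1, op d)) := by
        ext <;> simp [h']
      simp only [y, ← Functor.map_comp_apply, ← op_comp, k1, k2]
      rw [op_comp, op_comp, Functor.map_comp_apply, Functor.map_comp_apply]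
      exact congrArg _ e
    refine ⟨(hP S hS).amalgamate y hy, fun c' k hk => ?_, fun z hz => ?_⟩
    · refine ((hP S hS).valid_glue hy ((k ×ₘ 𝟙 (op d)) : (c', op d) ⟶ (c, op d)) hk).trans ?_
      exact ConcreteCategory.congr_hom (P.obj.map_id _) (x k hk)
    · refine (hP.isSeparated S hS).ext fun Y f hf => ?_
      rw [(hP S hS).valid_glue hy f hf]
      have e : f = ((𝟙 Y.1 ×ₘ f.2) : Y ⟶ (Y.1, op d)) ≫ ((f.1 ×ₘ 𝟙 (op d)) : (Y.1, op d) ⟶ (c, op d)) := by
        ext <;> simp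
      refine (congrArg (fun g : Y ⟶ (c, op d) => P.obj.map g.op z) e).trans ?_
      rw [op_comp, Functor.map_comp_apply]
      exact congrArg _ (hz f.1 hf)
  let F : D ⥤ Sheaf J (Type u) :=
    { obj := fun d => ⟨G d, hG d⟩
      map := fun {d d'} g => ⟨{
        app := fun c => P.obj.map ((𝟙 c.unop ×ₘ g.op) : (c.unop, op d') ⟶ (c.unop, op d)).op
        naturality := fun c c' k => by
          simp only [G, ← P.obj.map_comp, ← op_comp]
          congr 2
          ext <;> simp }⟩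
      map_id := fun d => by apply Sheaf.hom_ext; ext c : 2; exact P.obj.map_id _
      map_comp := fun g g' => by
        apply Sheaf.hom_ext
        ext c : 2
        show _ = P.obj.map _ ≫ P.obj.map _
        rw [← P.obj.map_comp, ← op_comp]
        congr 2
        ext <;> simp }
  refine ⟨F, ⟨(fullyFaithfulSheafToPresheaf _ _).preimageIso (NatIso.ofComponents (fun X => Iso.refl _) ?_)⟩⟩
  intro X Y f
  refine (Category.comp_id _).trans (Eq.trans ?_ (Category.id_comp _).symm)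
  ext x
  show P.obj.map _ (P.obj.map _ x) = P.obj.map f x
  refine (Functor.map_comp_apply P.obj _ _ x).symm.trans ?_
  congr 3
  apply Quiver.Hom.unop_inj
  ext <;> simp⟩

theorem isTopos_functor {E : Type v} [Category.{u} E] (hE : SGA4.IsTopos E) (D : Type u) [SmallCategory D] :
    SGA4.IsTopos (D ⥤ E) := by
  obtain ⟨C, _, J, ⟨e⟩⟩ := hE
  haveI := toSheaf_faithful J (D := D)
  haveI := toSheaf_full J (D := D)
  haveI := toSheaf_essSurj J (D := D)
  haveI : (toSheaf J (D := D)).IsEquivalence := { }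
  exact ⟨C × Dᵒᵖ, inferInstance, topology J, ⟨e.congrRight.trans (toSheaf J).asEquivalence⟩⟩

end Groth.Agent.FunctorTopos
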